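import Mathlib
set_option linter.all false

/-!
A tiny certified coset enumeration machine (all generators are involutions).

The state consists of a partial coset table (`edges`, key `8 * n + g`, value `m + 1`) and an alias
table (`alias`, key `n`, value `m + 1`).  Every operation adds only facts that hold in the given
action, so whatever the certificate is, the final table is correct.
-/

set_option autoImplicit false

namespace Cfsg.Agent.SporRec.J1.Machine

/-- Binary tries storing natural numbers, `0` meaning "nothing stored". -/
inductive Tr : Type
  | leaf : Tr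
  | node : Tr → ℕ → Tr → Tr

/-- Look up the value stored under a key. -/
def get : Tr → ℕ → ℕ
  | .leaf, _ => 0
  | .node l v r, k => cond (Nat.beq k 0) v
      (cond (Nat.beq (k % 2) 1) (get l (k / 2)) (get r (k / 2 - 1)))

/-- Store a value under a key (with fuel bounding the depth). -/
def set : ℕ → Tr → ℕ → ℕ → Tr
  | 0, t, _, _ => t
  | n + 1, .leaf, k, w => cond (Nat.beq k 0) (.node .leaf w .leaf)
      (cond (Nat.beq (k % 2) 1) (.node (set n .leaf (k / 2) w) 0 .leaf)
        (.node .leaf 0 (set n .leaf (k / 2 - 1) w)))
  | n + 1, .node l v r, k, w => cond (Nat.beq k 0) (.node l w r)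
      (cond (Nat.beq (k % 2) 1) (.node (set n l (k / 2) w) v r)
        (.node l v (set n r (k / 2 - 1) w)))

theorem beq_false {a b : ℕ} (h : a ≠ b) : Nat.beq a b = false := by
  cases hb : Nat.beq a b
  · rfl
  · exact absurd (Nat.eq_of_beq_eq_true hb) h

theorem beq_true {a b : ℕ} (h : a = b) : Nat.beq a b = true := by
  subst h; exact Nat.beq_refl a

theorem get_set (n : ℕ) : ∀ (t : Tr) (k w k' : ℕ),
    get (set n t k w) k' = get t k' ∨ (k' = k ∧ get (set n t k w) k' = w) := by
  induction n with
  | zero => intro t k w k'; left; rfl
  | succ n ih =>
    intro t k w k'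
    by_cases hk : k = 0
    · subst hk
      cases t with
      | leaf =>
        by_cases hk' : k' = 0
        · subst hk'; right; exact ⟨rfl, rfl⟩
        · left
          have hb : Nat.beq k' 0 = false := beq_false hk'
          simp only [set, get, Nat.beq_refl, cond_true, hb, cond_false]
          cases Nat.beq (k' % 2) 1 <;> rfl
      | node l v r =>
        by_cases hk' : k' = 0
        · subst hk'; right; exact ⟨rfl, rfl⟩
        · left
          have hb : Nat.beq k' 0 = false := beq_false hk'
          simp only [set, get, Nat.beq_refl, cond_true, hb, cond_false]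
    · have hkb : Nat.beq k 0 = false := beq_false hk
      by_cases ho : k % 2 = 1
      · have hob : Nat.beq (k % 2) 1 = true := beq_true ho
        cases t with
        | leaf =>
          by_cases hk' : k' = 0
          · left; subst hk'
            simp [set, get, hkb, hob]
          · have hb : Nat.beq k' 0 = false := beq_false hk'
            by_cases ho' : k' % 2 = 1
            · have hob' : Nat.beq (k' % 2) 1 = true := beq_true ho'
              rcases ih .leaf (k / 2) w (k' / 2) with h | ⟨h1, h2⟩
              · left
                simp only [set, get, hkb, hob, cond_false, cond_true, hb, hob']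
                rw [h]; rfl
              · right
                refine ⟨by omega, ?_⟩
                simp only [set, get, hkb, hob, cond_false, cond_true, hb, hob']
                exact h2
            · left
              have hob' : Nat.beq (k' % 2) 1 = false := beq_false ho'
              simp only [set, get, hkb, hob, cond_false, cond_true, hb, hob']
        | node l v r =>
          by_cases hk' : k' = 0
          · left; subst hk'
            simp [set, get, hkb, hob]
          · have hb : Nat.beq k' 0 = false := beq_false hk'
            by_cases ho' : k' % 2 = 1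
            · have hob' : Nat.beq (k' % 2) 1 = true := beq_true ho'
              rcases ih l (k / 2) w (k' / 2) with h | ⟨h1, h2⟩
              · left
                simp only [set, get, hkb, hob, cond_false, cond_true, hb, hob']
                rw [h]
              · right
                refine ⟨by omega, ?_⟩
                simp only [set, get, hkb, hob, cond_false, cond_true, hb, hob']
                exact h2
            · left
              have hob' : Nat.beq (k' % 2) 1 = false := beq_false ho'
              simp only [set, get, hkb, hob, cond_false, cond_true, hb, hob']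
      · have hob : Nat.beq (k % 2) 1 = false := beq_false ho
        cases t with
        | leaf =>
          by_cases hk' : k' = 0
          · left; subst hk'
            simp [set, get, hkb, hob]
          · have hb : Nat.beq k' 0 = false := beq_false hk'
            by_cases ho' : k' % 2 = 1
            · have hob' : Nat.beq (k' % 2) 1 = true := beq_true ho'
              left
              simp only [set, get, hkb, hob, cond_false, cond_true, hb, hob']
            · have hob' : Nat.beq (k' % 2) 1 = false := beq_false ho'
              rcases ih .leaf (k / 2 - 1) w (k' / 2 - 1) with h | ⟨h1, h2⟩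
              · left
                simp only [set, get, hkb, hob, cond_false, hb, hob']
                rw [h]; rfl
              · right
                refine ⟨by omega, ?_⟩
                simp only [set, get, hkb, hob, cond_false, hb, hob']
                exact h2
        | node l v r =>
          by_cases hk' : k' = 0
          · left; subst hk'
            simp [set, get, hkb, hob]
          · have hb : Nat.beq k' 0 = false := beq_false hk'
            by_cases ho' : k' % 2 = 1
            · have hob' : Nat.beq (k' % 2) 1 = true := beq_true ho'
              left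
              simp only [set, get, hkb, hob, cond_false, cond_true, hb, hob']
            · have hob' : Nat.beq (k' % 2) 1 = false := beq_false ho'
              rcases ih r (k / 2 - 1) w (k' / 2 - 1) with h | ⟨h1, h2⟩
              · left
                simp only [set, get, hkb, hob, cond_false, hb, hob']
                rw [h]
              · right
                refine ⟨by omega, ?_⟩
                simp only [set, get, hkb, hob, cond_false, hb, hob']
                exact h2

/-- The state of the machine. -/
structure St : Type where
  /-- partial table -/
  edges : Tr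
  /-- coincidences -/
  als : Tr

/-- follow the aliases -/
def norm (al : Tr) : ℕ → ℕ → ℕ
  | 0, n => n
  | f + 1, n => match get al n with
    | 0 => n
    | m + 1 => norm al f m

/-- look up an edge: value `0` means unknown, `m + 1` means target `m`. -/
def look (s : St) (n g : ℕ) : ℕ :=
  match get s.edges (8 * n + g) with
  | 0 => 0
  | m + 1 => norm s.als 8 m + 1

/-- trace a word, result `0` means stuck, `m + 1` means ends at `m`. -/
def trace (s : St) : ℕ → List ℕ → ℕ
  | n, [] => n + 1
  | n, g :: w => match look s n g with
    | 0 => 0
    | m + 1 => trace s m w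

/-- record the true fact "generator `x` maps node `n` to node `m`". -/
def upd (s : St) (n x m : ℕ) : St :=
  let n' := norm s.als 8 n
  let m' := norm s.als 8 m
  match look s n' x with
  | 0 => ⟨set 14 s.edges (8 * n' + x) (m' + 1), s.als⟩
  | e + 1 => cond (Nat.beq e m') s
      (cond (Nat.blt e m') ⟨s.edges, set 14 s.als m' (e + 1)⟩ ⟨s.edges, set 14 s.als e (m' + 1)⟩)

/-- record a fact in both directions (generators are involutions). -/
def upd2 (s : St) (n x m : ℕ) : St := upd (upd s n x m) m x n

/-- Operations: apply a rule at a node, or transfer an edge of a dead node. -/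
inductive Op : Type
  | R : ℕ → ℕ → Op
  | X : ℕ → ℕ → Op

/-- one step of the machine; `rules` is the list of rules `(x, v)`: generator `x` acts as the word `v`. -/
def step (rules : List (ℕ × List ℕ)) (s : St) : Op → St
  | .R n r => match rules[r]? with
    | none => s
    | some (x, v) => match trace s n v with
      | 0 => s
      | b + 1 => upd2 s n x b
  | .X q g => match get s.edges (8 * q + g) with
    | 0 => s
    | m + 1 => upd2 s q g m

/-- run a list of operations -/
def run (rules : List (ℕ × List ℕ)) : List Op → St → St
  | [], s => s
  | o :: os, s => run rules os (step rules s o)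

section Sound

variable {G Ω : Type*} [Group G] [MulAction G Ω] (gens : ℕ → G) (rep : ℕ → Ω)

/-- value of a word, first letter acting first (i.e. the product in reverse order) -/
def val : List ℕ → G
  | [] => 1
  | g :: w => val w * gens g

/-- all facts of the state hold -/
structure Valid (s : St) : Prop where
  edge : ∀ n g m, g < 8 → get s.edges (8 * n + g) = m + 1 → gens g • rep n = rep m
  ali : ∀ n m, get s.als n = m + 1 → rep n = rep m

variable {gens rep}

theorem rep_norm {s : St} (hs : Valid gens rep s) (f : ℕ) : ∀ n, rep (norm s.als f n) = rep n := by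
  induction f with
  | zero => intro n; rfl
  | succ f ih =>
    intro n
    unfold norm
    split
    · rfl
    · rename_i m h
      rw [ih, hs.ali n m h]

theorem look_sound {s : St} (hs : Valid gens rep s) {n g m : ℕ} (hg : g < 8)
    (h : look s n g = m + 1) : gens g • rep n = rep m := by
  unfold look at h
  split at h
  · simp at h
  · rename_i m' h'
    have : norm s.als 8 m' = m := by omega
    rw [← this, rep_norm hs, hs.edge n g m' hg h']

theorem trace_sound {s : St} (hs : Valid gens rep s) : ∀ (v : List ℕ) (n b : ℕ),
    (∀ g ∈ v, g < 8) → trace s n v = b + 1 → val gens v • rep n = rep b := by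
  intro v
  induction v with
  | nil =>
    intro n b _ h
    have : n = b := by simpa [trace] using h
    subst this; exact one_smul G _
  | cons g v ih =>
    intro n b hv h
    unfold trace at h
    split at h
    · simp at h
    · rename_i m h'
      have h1 := look_sound hs (hv g (by simp)) h'
      have h2 := ih m b (fun x hx => hv x (by simp [hx])) h
      rw [val, mul_smul, h1, h2]

theorem upd_valid {s : St} (hs : Valid gens rep s) {n x m : ℕ} (hx : x < 8)
    (h : gens x • rep n = rep m) : Valid gens rep (upd s n x m) := by
  unfold upd
  have hn := rep_norm hs 8 n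
  have hm := rep_norm hs 8 m
  set n' := norm s.als 8 n
  set m' := norm s.als 8 m
  have h' : gens x • rep n' = rep m' := by rw [hn, hm, h]
  simp only
  split
  · refine ⟨?_, hs.ali⟩
    intro a g b hg hab
    simp only at hab
    rcases get_set 14 s.edges (8 * n' + x) (m' + 1) (8 * a + g) with h1 | ⟨h1, h2⟩
    · rw [h1] at hab; exact hs.edge a g b hg hab
    · have ha : a = n' := by omega
      have hgx : g = x := by omega
      have hb : b = m' := by omega
      subst ha hgx hb; exact h'
  · rename_i e he
    have he' := look_sound hs hx he
    have hem : rep e = rep m' := by rw [← he', h']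
    cases hb : Nat.beq e m'
    · simp only [cond_false]
      cases hb2 : Nat.blt e m'
      · simp only [cond_false]
        refine ⟨hs.edge, ?_⟩
        intro a b hab
        simp only at hab
        rcases get_set 14 s.als e (m' + 1) a with h1 | ⟨h1, h2⟩
        · rw [h1] at hab; exact hs.ali a b hab
        · have hb : b = m' := by omega
          rw [h1, hb]; exact hem
      · simp only [cond_true]
        refine ⟨hs.edge, ?_⟩
        intro a b hab
        simp only at hab
        rcases get_set 14 s.als m' (e + 1) a with h1 | ⟨h1, h2⟩
        · rw [h1] at hab; exact hs.ali a b hab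
        · have hb : b = e := by omega
          rw [h1, hb]; exact hem.symm
    · simpa only [cond_true] using hs

theorem upd2_valid {s : St} (hs : Valid gens rep s) {n x m : ℕ} (hx : x < 8)
    (hinv : gens x * gens x = 1)
    (h : gens x • rep n = rep m) : Valid gens rep (upd2 s n x m) := by
  unfold upd2
  refine upd_valid (upd_valid hs hx h) hx ?_
  rw [← h, smul_smul, hinv, one_smul]

/-- The rules hold in the action and only use the generators `< 8`, which are involutions. -/
structure Rules (gens : ℕ → G) (rules : List (ℕ × List ℕ)) : Prop where
  inv : ∀ g, g < 8 → gens g * gens g = 1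
  bound : ∀ p ∈ rules, p.1 < 8 ∧ ∀ g ∈ p.2, g < 8
  rule : ∀ p ∈ rules, gens p.1 = val gens p.2

theorem step_valid {rules : List (ℕ × List ℕ)} (hr : Rules gens rules) {s : St}
    (hs : Valid gens rep s) (o : Op) (ho : ∀ q g, o = .X q g → g < 8) :
    Valid gens rep (step rules s o) := by
  cases o with
  | R n r =>
    unfold step
    simp only
    split
    · exact hs
    · rename_i x v hxv
      have hmem : (x, v) ∈ rules := List.mem_of_getElem? hxv
      have hb := hr.bound _ hmem
      split
      · exact hs
      · rename_i b hb'
        refine upd2_valid hs hb.1 (hr.inv x hb.1) ?_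
        have := hr.rule _ hmem
        simp only at this
        rw [this, trace_sound hs v n b hb.2 hb']
  | X q g =>
    unfold step
    simp only
    split
    · exact hs
    · rename_i m hm
      have hg : g < 8 := ho q g rfl
      exact upd2_valid hs hg (hr.inv g hg) (hs.edge q g m hg hm)

/-- boolean check that the operations of type `X` use generators `< 8` -/
def okOps : List Op → Bool
  | [] => true
  | .R _ _ :: os => okOps os
  | .X _ g :: os => Nat.blt g 8 && okOps os

theorem run_valid {rules : List (ℕ × List ℕ)} (hr : Rules gens rules) :
    ∀ (os : List Op) (s : St), okOps os = true → Valid gens rep s →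
      Valid gens rep (run rules os s) := by
  intro os
  induction os with
  | nil => intro s _ hs; exact hs
  | cons o os ih =>
    intro s ho hs
    unfold run
    cases o with
    | R n r =>
      exact ih _ ho (step_valid hr hs _ (by intro q g h; cases h))
    | X q g =>
      rw [okOps, Bool.and_eq_true] at ho
      refine ih _ ho.2 (step_valid hr hs _ ?_)
      intro q' g' h
      cases h
      simpa [Nat.blt] using ho.1

end Sound

/-- initial table: loops at the base node and the spanning tree.
`tree` lists for the nodes `1, 2, ...` the pair (parent, generator). -/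
def initAux : List (ℕ × ℕ) → ℕ → Tr → Tr
  | [], _, t => t
  | (p, g) :: l, n, t => initAux l (n + 1) (set 14 (set 14 t (8 * p + g) (n + 1)) (8 * n + g) (p + 1))

/-- check of the spanning tree -/
def okTree : List (ℕ × ℕ) → ℕ → Bool
  | [], _ => true
  | (p, g) :: l, n => Nat.blt p n && (Nat.blt g 8 && okTree l (n + 1))

/-- loops at node `0` -/
def initLoops : List ℕ → Tr → Tr
  | [], t => t
  | g :: l, t => initLoops l (set 14 t g 1)

section Init

variable {G Ω : Type*} [Group G] [MulAction G Ω] {gens : ℕ → G}

theorem initLoops_valid (rep : ℕ → Ω) : ∀ (l : List ℕ) (t : Tr),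
    (∀ g ∈ l, g < 8 ∧ gens g • rep 0 = rep 0) → Valid gens rep ⟨t, .leaf⟩ →
    (∀ a g m, g < 8 → get t (8 * a + g) = m + 1 → a < 1 ∧ m < 1) →
    Valid gens rep ⟨initLoops l t, .leaf⟩ ∧
    (∀ a g m, g < 8 → get (initLoops l t) (8 * a + g) = m + 1 → a < 1 ∧ m < 1) := by
  intro l
  induction l with
  | nil => intro t _ h1 h2; exact ⟨h1, h2⟩
  | cons g l ih =>
    intro t hl h1 h2
    unfold initLoops
    apply ih
    · intro g' hg'; exact hl g' (by simp [hg'])
    · refine ⟨?_, ?_⟩
      · intro a x m hx h
        simp only at h
        rcases get_set 14 t g 1 (8 * a + x) with h3 | ⟨h3, h4⟩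
        · rw [h3] at h; exact h1.edge a x m hx h
        · have hg := hl g (by simp)
          have ha : a = 0 := by omega
          have hxg : x = g := by omega
          have hm : m = 0 := by omega
          subst ha hxg hm
          exact hg.2
      · intro n m h
        have : (0 : ℕ) = m + 1 := h
        omega
    · intro a x m hx h
      rcases get_set 14 t g 1 (8 * a + x) with h3 | ⟨h3, h4⟩
      · rw [h3] at h; exact h2 a x m hx h
      · have hg := hl g (by simp)
        omega

theorem initAux_valid (hinv : ∀ g, g < 8 → gens g * gens g = 1) :
    ∀ (l : List (ℕ × ℕ)) (n : ℕ) (t : Tr) (rep : ℕ → Ω), 0 < n →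
    okTree l n = true → Valid gens rep ⟨t, .leaf⟩ →
    (∀ a g m, g < 8 → get t (8 * a + g) = m + 1 → a < n ∧ m < n) →
    ∃ rep' : ℕ → Ω, rep' 0 = rep 0 ∧ Valid gens rep' ⟨initAux l n t, .leaf⟩ := by
  intro l
  induction l with
  | nil => intro n t rep _ _ h _; exact ⟨rep, rfl, h⟩
  | cons pg l ih =>
    obtain ⟨p, g⟩ := pg
    intro n t rep hn hok hv hb
    rw [okTree, Bool.and_eq_true, Bool.and_eq_true] at hok
    have hp : p < n := by simpa [Nat.blt] using hok.1
    have hg : g < 8 := by simpa [Nat.blt] using hok.2.1
    have hv' : Valid gens (Function.update rep n (gens g • rep p))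
        ⟨set 14 (set 14 t (8 * p + g) (n + 1)) (8 * n + g) (p + 1), .leaf⟩ := by
      refine ⟨?_, ?_⟩
      · intro a x m hx h
        simp only at h
        rcases get_set 14 (set 14 t (8 * p + g) (n + 1)) (8 * n + g) (p + 1) (8 * a + x) with h3 | ⟨h3, h4⟩
        · rw [h3] at h
          rcases get_set 14 t (8 * p + g) (n + 1) (8 * a + x) with h5 | ⟨h5, h6⟩
          · rw [h5] at h
            have := hb a x m hx h
            rw [Function.update_of_ne (by omega), Function.update_of_ne (by omega)]
            exact hv.edge a x m hx h
          · have ha : a = p := by omega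
            have hxg : x = g := by omega
            have hm : m = n := by omega
            subst ha hxg hm
            rw [Function.update_of_ne (by omega), Function.update_self]
        · have ha : a = n := by omega
          have hxg : x = g := by omega
          have hm : m = p := by omega
          subst ha hxg hm
          rw [Function.update_self, Function.update_of_ne (by omega), smul_smul, hinv x hx, one_smul]
      · intro a m h
        have : (0 : ℕ) = m + 1 := h
        omega
    obtain ⟨rep', h1, h2⟩ := ih (n + 1) _ (Function.update rep n (gens g • rep p)) (by omega)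
      hok.2.2 hv' (by
        intro a x m hx h
        rcases get_set 14 (set 14 t (8 * p + g) (n + 1)) (8 * n + g) (p + 1) (8 * a + x) with h3 | ⟨h3, h4⟩
        · rw [h3] at h
          rcases get_set 14 t (8 * p + g) (n + 1) (8 * a + x) with h5 | ⟨h5, h6⟩
          · rw [h5] at h
            have := hb a x m hx h
            omega
          · omega
        · omega)
    refine ⟨rep', ?_, h2⟩
    rw [h1, Function.update_of_ne (by omega)]

/-- initial state -/
def init (loops : List ℕ) (tree : List (ℕ × ℕ)) : St := ⟨initAux tree 1 (initLoops loops .leaf), .leaf⟩

theorem init_valid (hinv : ∀ g, g < 8 → gens g * gens g = 1) (ω : Ω) (loops : List ℕ)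
    (hl : ∀ g ∈ loops, g < 8 ∧ gens g • ω = ω) (tree : List (ℕ × ℕ)) (ht : okTree tree 1 = true) :
    ∃ rep : ℕ → Ω, rep 0 = ω ∧ Valid gens rep (init loops tree) := by
  have h0 : Valid gens (fun _ => ω) ⟨.leaf, .leaf⟩ := by
    refine ⟨?_, ?_⟩
    · intro a x m _ h
      have : (0 : ℕ) = m + 1 := h
      omega
    · intro a m h
      have : (0 : ℕ) = m + 1 := h
      omega
  obtain ⟨h1, h2⟩ := initLoops_valid (fun _ => ω) loops .leaf hl h0 (by
    intro a g m _ h
    have : (0 : ℕ) = m + 1 := h
    omega)
  obtain ⟨rep, h3, h4⟩ := initAux_valid hinv tree 1 _ (fun _ => ω) (by omega) ht h1 h2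
  exact ⟨rep, h3, h4⟩

end Init

/-- completeness check of a row -/
def rowOk (s : St) (N n : ℕ) : ℕ → Bool
  | 0 => true
  | g + 1 => (match look s n g with
    | 0 => false
    | m + 1 => Nat.blt m N) && rowOk s N n g

/-- completeness check of the final table: rows `< n`, generators `< k`, targets `< N`. -/
def tableOk (s : St) (N k : ℕ) : ℕ → Bool
  | 0 => true
  | n + 1 => rowOk s N n k && tableOk s N k n

section Final

variable {G Ω : Type*} [Group G] [MulAction G Ω] {gens : ℕ → G} {rep : ℕ → Ω}

theorem rowOk_sound {s : St} (hs : Valid gens rep s) (N n : ℕ) : ∀ k, k ≤ 8 → rowOk s N n k = true →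
    ∀ g < k, ∃ m < N, gens g • rep n = rep m := by
  intro k
  induction k with
  | zero => intro _ _ g hg; omega
  | succ k ih =>
    intro hk h g hg
    rw [rowOk, Bool.and_eq_true] at h
    rcases Nat.lt_succ_iff_lt_or_eq.mp hg with h1 | h1
    · exact ih (by omega) h.2 g h1
    · subst h1
      have h1 := h.1
      split at h1
      · cases h1
      · rename_i m hm
        exact ⟨m, by simpa [Nat.blt] using h1, look_sound hs (by omega) hm⟩

theorem tableOk_sound {s : St} (hs : Valid gens rep s) (N k : ℕ) (hk : k ≤ 8) : ∀ n,
    tableOk s N k n = true → ∀ n' < n, ∀ g < k, ∃ m < N, gens g • rep n' = rep m := by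
  intro n
  induction n with
  | zero => intro _ n' hn'; omega
  | succ n ih =>
    intro h n' hn'
    rw [tableOk, Bool.and_eq_true] at h
    rcases Nat.lt_succ_iff_lt_or_eq.mp hn' with h1 | h1
    · exact ih h.2 n' h1
    · subst h1; exact rowOk_sound hs N n' k hk h.1

/-- If the table is complete, the orbit of the base point under the group generated by the
generators is contained in the set of nodes. -/
theorem orbit_subset {s : St} (hs : Valid gens rep s) (N k : ℕ) (hk : k ≤ 8) (hN : 0 < N)
    (hinv : ∀ g, g < 8 → gens g * gens g = 1)
    (h : tableOk s N k N = true) (x : G) (hx : x ∈ Subgroup.closure {y | ∃ g < k, y = gens g}) :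
    ∃ m < N, x • rep 0 = rep m := by
  have key : ∀ y ∈ {y | ∃ g < k, y = gens g}, ∀ n < N, ∃ m < N, y • rep n = rep m := by
    rintro y ⟨g, hg, rfl⟩ n hn
    exact tableOk_sound hs N k hk N h n hn g hg
  have : ∀ n < N, ∃ m < N, x • rep n = rep m := by
    induction hx using Subgroup.closure_induction'' with
    | mem y hy => exact key y hy
    | inv_mem y hy =>
      obtain ⟨g, hg, rfl⟩ := hy
      have : (gens g)⁻¹ = gens g := inv_eq_of_mul_eq_one_right (hinv g (by omega))
      rw [this]
      exact key _ ⟨g, hg, rfl⟩
    | one => intro n hn; exact ⟨n, hn, one_smul _ _⟩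
    | mul y z _ _ hy hz =>
      intro n hn
      obtain ⟨m, hm, h1⟩ := hz n hn
      obtain ⟨l, hl, h2⟩ := hy m hm
      exact ⟨l, hl, by rw [mul_smul, h1, h2]⟩
  exact this 0 hN

theorem val_append (u v : List ℕ) : val gens (u ++ v) = val gens v * val gens u := by
  induction u with
  | nil => simp [val]
  | cons g u ih => simp [val, ih, mul_assoc]

theorem val_reverse (hinv : ∀ g, g < 8 → gens g * gens g = 1) (u : List ℕ) (hu : ∀ g ∈ u, g < 8) :
    val gens u.reverse = (val gens u)⁻¹ := by
  induction u with
  | nil => simp [val]
  | cons g u ih =>
    have h1 : (gens g)⁻¹ = gens g := inv_eq_of_mul_eq_one_right (hinv g (hu g (by simp)))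
    rw [List.reverse_cons, val_append, ih (fun x hx => hu x (by simp [hx]))]
    simp [val, h1]

theorem val_rotate (u : List ℕ) (k : ℕ) (h : val gens u = 1) : val gens (u.rotate k) = 1 := by
  rw [List.rotate_eq_drop_append_take_mod, val_append]
  rw [← List.take_append_drop (k % u.length) u, val_append] at h
  exact mul_eq_one_comm.mp h

/-- check that a rule comes from a rotation of a relator or of its reversal -/
def ruleOk (rels : List (List ℕ)) (p : ℕ × List ℕ) : Bool :=
  Nat.blt p.1 8 && (p.2.all (fun g => Nat.blt g 8) &&
    rels.any (fun w => (List.range w.length).any (fun k =>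
      decide (w.rotate k = p.1 :: p.2.reverse) || decide (w.reverse.rotate k = p.1 :: p.2.reverse))))

theorem rules_of_rels (hinv : ∀ g, g < 8 → gens g * gens g = 1) (rels : List (List ℕ))
    (rules : List (ℕ × List ℕ)) (hb : ∀ w ∈ rels, ∀ g ∈ w, g < 8)
    (hrel : ∀ w ∈ rels, val gens w = 1) (hok : rules.all (ruleOk rels) = true) :
    Rules gens rules := by
  have hp : ∀ p ∈ rules, ruleOk rels p = true := by
    simpa [List.all_eq_true] using hok
  refine ⟨hinv, ?_, ?_⟩
  · intro p hpm
    have := hp p hpm
    rw [ruleOk, Bool.and_eq_true, Bool.and_eq_true] at this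
    refine ⟨by simpa [Nat.blt] using this.1, ?_⟩
    have h2 := this.2.1
    rw [List.all_eq_true] at h2
    intro g hg
    simpa [Nat.blt] using h2 g hg
  · intro p hpm
    have := hp p hpm
    rw [ruleOk, Bool.and_eq_true, Bool.and_eq_true] at this
    have hb2 : ∀ g ∈ p.2, g < 8 := by
      have h2 := this.2.1
      rw [List.all_eq_true] at h2
      intro g hg
      simpa [Nat.blt] using h2 g hg
    have h3 := this.2.2
    rw [List.any_eq_true] at h3
    obtain ⟨w, hw, h4⟩ := h3
    rw [List.any_eq_true] at h4
    obtain ⟨k, _, h5⟩ := h4
    have h6 : val gens (p.1 :: p.2.reverse) = 1 := by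
      rw [Bool.or_eq_true] at h5
      rcases h5 with h5 | h5
      · rw [← of_decide_eq_true h5]
        exact val_rotate w k (hrel w hw)
      · rw [← of_decide_eq_true h5]
        refine val_rotate _ k ?_
        rw [val_reverse hinv w (hb w hw), hrel w hw, inv_one]
    rw [val, val_reverse hinv _ hb2] at h6
    exact (mul_left_cancel (a := (val gens p.2)⁻¹) (by rw [h6, inv_mul_cancel]))

end Final

end Cfsg.Agent.SporRec.J1.Machine
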