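import Cfsg.Agent.SporadicB.J1.Main
import Cfsg.Agent.SporRec.J1.Defs
set_option linter.all false

/-!
Five involutions in the matrix group `Cfsg.Spor.J1` satisfying the defining relations `Gens`, and
generating the group.
-/

set_option autoImplicit false

namespace Cfsg.Agent.SporRec.J1.Words

open Cfsg.Spor Cfsg.Agent.SporadicB.J1.Main Cfsg.Agent.SporadicB.J1.Mat Cfsg.Agent.SporadicB.J1.Data
open Cfsg.Agent.SporRec.J1.Defs

/-- first generator -/
def ga : J1 := ev [0, 3, 0, 1]
/-- second generator -/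
def gb : J1 := ev [2, 1, 1, 2, 1, 2, 1, 0, 0, 1, 2, 1]
/-- third generator -/
def gc : J1 := ev [2, 2, 3, 2, 2, 1]
/-- fourth generator -/
def gd : J1 := ev [1, 0, 0, 1, 2, 1, 2, 3, 3]
/-- fifth generator -/
def ge : J1 := ev [2, 3, 2, 1]

theorem ra : Rep ga (evC [0, 3, 0, 1]) := rep_ev _
theorem rb : Rep gb (evC [2, 1, 1, 2, 1, 2, 1, 0, 0, 1, 2, 1]) := rep_ev _
theorem rc : Rep gc (evC [2, 2, 3, 2, 2, 1]) := rep_ev _
theorem rd : Rep gd (evC [1, 0, 0, 1, 2, 1, 2, 3, 3]) := rep_ev _
theorem re : Rep ge (evC [2, 3, 2, 1]) := rep_ev _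

theorem gens : Gens ga gb gc gd ge where
  a2 := (ra.mul ra).eq Rep.one (by decide +kernel)
  b2 := (rb.mul rb).eq Rep.one (by decide +kernel)
  c2 := (rc.mul rc).eq Rep.one (by decide +kernel)
  d2 := (rd.mul rd).eq Rep.one (by decide +kernel)
  e2 := (re.mul re).eq Rep.one (by decide +kernel)
  ab := ((ra.mul rb).pow 5).eq Rep.one (by decide +kernel)
  bc := ((rb.mul rc).pow 3).eq Rep.one (by decide +kernel)
  cd := ((rc.mul rd).pow 5).eq Rep.one (by decide +kernel)
  de := ((rd.mul re).pow 3).eq Rep.one (by decide +kernel)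
  ac := (ra.mul rc).eq (rc.mul ra) (by decide +kernel)
  ad := (ra.mul rd).eq (rd.mul ra) (by decide +kernel)
  ae := (ra.mul re).eq (re.mul ra) (by decide +kernel)
  bd := (rb.mul rd).eq (rd.mul rb) (by decide +kernel)
  be := (rb.mul re).eq (re.mul rb) (by decide +kernel)
  ce := (rc.mul re).eq (re.mul rc) (by decide +kernel)
  abc := (((ra.mul rb).mul rc).pow 5).eq re (by decide +kernel)
  bcd := (((rb.mul rc).mul rd).pow 5).eq Rep.one (by decide +kernel)
  cde := (((rc.mul rd).mul re).pow 5).eq Rep.one (by decide +kernel)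

theorem X_eq : X = gc * gb * ga * gb * ga * gc * gb * gd * gc * gd * gc * ge * gd :=
  repX.eq ((((((((((((rc.mul rb).mul ra).mul rb).mul ra).mul rc).mul rb).mul rd).mul rc).mul rd).mul rc).mul
    re).mul rd) (by decide +kernel)

theorem Y_eq : Y = ga * gb * ga * gc * ge * gd * gc * gb * ga * gb * gd * gc * gb * ge * gd * gc * gb *
    ga * gb * gd * gc * gd :=
  repY.eq (((((((((((((((((((((ra.mul rb).mul ra).mul rc).mul re).mul rd).mul rc).mul rb).mul ra).mul
    rb).mul rd).mul rc).mul rb).mul re).mul rd).mul rc).mul rb).mul ra).mul rb).mul rd).mul rc).mul rd)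
    (by decide +kernel)

theorem mem_X {G : Type*} [Group G] (S : Subgroup G) {a b c d e : G} (ha : a ∈ S) (hb : b ∈ S)
    (hc : c ∈ S) (hd : d ∈ S) (he : e ∈ S) : c * b * a * b * a * c * b * d * c * d * c * e * d ∈ S := by
  repeat' first | assumption | apply mul_mem

theorem mem_Y {G : Type*} [Group G] (S : Subgroup G) {a b c d e : G} (ha : a ∈ S) (hb : b ∈ S)
    (hc : c ∈ S) (hd : d ∈ S) (he : e ∈ S) : a * b * a * c * e * d * c * b * a * b * d * c * b * e * d *
      c * b * a * b * d * c * d ∈ S := by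
  repeat' first | assumption | apply mul_mem

theorem closure_eq_top : Subgroup.closure ({ga, gb, gc, gd, ge} : Set J1) = ⊤ := by
  have h := data.hgen
  rw [eq_top_iff, ← h, Subgroup.closure_le]
  have ha : ga ∈ Subgroup.closure ({ga, gb, gc, gd, ge} : Set J1) := Subgroup.subset_closure (by simp)
  have hb : gb ∈ Subgroup.closure ({ga, gb, gc, gd, ge} : Set J1) := Subgroup.subset_closure (by simp)
  have hc : gc ∈ Subgroup.closure ({ga, gb, gc, gd, ge} : Set J1) := Subgroup.subset_closure (by simp)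
  have hd : gd ∈ Subgroup.closure ({ga, gb, gc, gd, ge} : Set J1) := Subgroup.subset_closure (by simp)
  have he : ge ∈ Subgroup.closure ({ga, gb, gc, gd, ge} : Set J1) := Subgroup.subset_closure (by simp)
  have hX : X ∈ Subgroup.closure ({ga, gb, gc, gd, ge} : Set J1) :=
    X_eq ▸ mem_X _ ha hb hc hd he
  have hY : Y ∈ Subgroup.closure ({ga, gb, gc, gd, ge} : Set J1) :=
    Y_eq ▸ mem_Y _ ha hb hc hd he
  intro x hx
  rcases hx with hx | hx
  · rw [hx]; exact hX
  · rw [Set.mem_singleton_iff.mp hx]; exact hY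

theorem isSimple : IsSimpleGroup J1 := isJ1.1

theorem card_J1 : Nat.card J1 = 175560 := isJ1.2

end Cfsg.Agent.SporRec.J1.Words
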