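import Mathlib
import Cfsg.Agent.SporRec.J1.Defs
import Cfsg.Agent.SporRec.J1.CentFacts
import Cfsg.Agent.SporRec.J1.A5More
set_option linter.all false

/-!
Centralisers of elements of order 3 and 5 in a group of type `J1`.
-/

set_option autoImplicit false

namespace Cfsg.Agent.SporRec.J1.Pair

open Cfsg.Agent.SporRec.J1.Defs Cfsg.Agent.SporRec.J1.CentFacts
open Cfsg.Agent.SporRec.J1.A5More (s0 d0 c0 c1 w0)

variable {G : Type*} [Group G]

theorem pair {x a : G} {n q : ℕ} (hn : Nat.Prime n) (hq : Nat.Prime q) (hnq : n * q = 15)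
    (hx : orderOf x = n) (ha : orderOf a = 2) (hax : a * x = x * a)
    (hcard : Nat.card (Subgroup.centralizer ({x} : Set G)) = 30)
    (hC : ∀ y, y * a = a * y → y * x = x * y → y ^ q = 1 → y = 1) :
    ∃ y, orderOf y = q ∧ y * x = x * y ∧ a * y * a⁻¹ = y⁻¹ ∧
      ∀ z, z * x = x * z → ∃ i j k : ℤ, z = x ^ i * y ^ j * a ^ k := by
  have hcop : n.Coprime q := by
    rw [Nat.coprime_primes hn hq]
    rintro rfl
    have : n ≤ 3 ∨ 4 ≤ n := by omega
    rcases this with h | h
    · have : n * n ≤ 9 := Nat.mul_le_mul h h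
      omega
    · have : 4 * 4 ≤ n * n := Nat.mul_le_mul h h
      omega
  set C := Subgroup.centralizer ({x} : Set G) with hCdef
  have memC : ∀ z : G, z ∈ C ↔ z * x = x * z := fun z => Subgroup.mem_centralizer_singleton_iff
  have : Finite C := Nat.finite_of_card_ne_zero (by rw [hcard]; norm_num)
  have : Fact q.Prime := ⟨hq⟩
  obtain ⟨y, hy⟩ := exists_prime_orderOf_dvd_card' (G := C) q (by
    rw [hcard]; exact ⟨2 * n, by rw [show q * (2 * n) = 2 * (n * q) by ring, hnq]⟩)
  have hyx : (y : G) * x = x * y := (memC _).mp y.2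
  have hy' : orderOf (y : G) = q := by rw [← hy]; exact Subgroup.orderOf_coe y
  have hxC : x ∈ C := (memC x).mpr rfl
  have haC : a ∈ C := (memC a).mpr hax
  let x' : C := ⟨x, hxC⟩
  let a' : C := ⟨a, haC⟩
  have hx' : orderOf x' = n := by rw [← hx]; exact Subgroup.orderOf_mk x hxC
  have ha' : orderOf a' = 2 := by rw [← ha]; exact Subgroup.orderOf_mk a haC
  have hcomm : Commute x' y := Subtype.ext hyx.symm
  have hxy : orderOf (x' * y) = 15 := by
    rw [hcomm.orderOf_mul_eq_mul_orderOf_of_coprime (by rw [hx', hy]; exact hcop), hx', hy, hnq]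
  set M : Subgroup C := Subgroup.zpowers (x' * y) with hM
  have hMcard : Nat.card M = 15 := by rw [hM, Nat.card_zpowers, hxy]
  have hMindex : M.index = 2 := by
    have := M.card_mul_index
    rw [hMcard, hcard] at this
    omega
  have hMn : M.Normal := Subgroup.normal_of_index_eq_two hMindex
  have haM : a' ∉ M := by
    intro h
    have h1 : orderOf a' ∣ Nat.card M := Subgroup.orderOf_dvd_natCard M h
    rw [ha', hMcard] at h1
    omega
  have hsq : ∀ z : C, z * z ∈ M := fun z => Subgroup.mul_self_mem_of_index_two hMindex z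
  have hqodd : ∃ r, q + 1 = 2 * r := by
    rcases hq.eq_two_or_odd' with h | h
    · exfalso; rw [h] at hnq; omega
    · obtain ⟨r, hr⟩ := h
      exact ⟨r + 1, by omega⟩
  have hyM : y ∈ M := by
    obtain ⟨r, hr⟩ := hqodd
    have h1 : y = (y * y) ^ r := by
      rw [← pow_two, ← pow_mul, ← hr, pow_succ, ← hy, pow_orderOf_eq_one, one_mul]
    rw [h1]; exact M.pow_mem (hsq y) r
  -- conjugation by a
  have hconj : a' * y * a'⁻¹ ∈ M := hMn.conj_mem y hyM a'
  obtain ⟨m, hm⟩ := Subgroup.mem_zpowers_iff.mp hconj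
  have hq1 : (x' * y) ^ (m * q) = 1 := by
    rw [zpow_mul, hm, zpow_natCast, conj_pow, ← hy, pow_orderOf_eq_one, mul_one, mul_inv_cancel]
  have h15 : ((15 : ℕ) : ℤ) ∣ m * q := by
    rw [← hxy]; exact orderOf_dvd_iff_zpow_eq_one.mpr hq1
  have hnm : (n : ℤ) ∣ m := by
    have : ((n : ℤ) * q) ∣ m * q := by
      rw [← Nat.cast_mul, hnq]; exact h15
    exact Int.dvd_of_mul_dvd_mul_right (by exact_mod_cast hq.ne_zero) this
  have hxm : x' ^ m = 1 := by
    rw [← orderOf_dvd_iff_zpow_eq_one, hx']; exact hnm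
  have hay : a' * y * a'⁻¹ = y ^ m := by
    rw [← hm, hcomm.mul_zpow, hxm, one_mul]
  have haa : a' * a' = 1 := by rw [← pow_two, ← ha', pow_orderOf_eq_one]
  have hainv : a'⁻¹ = a' := inv_eq_of_mul_eq_one_right haa
  have hymm : y ^ (m * m) = y := by
    rw [zpow_mul, ← hay, conj_zpow, ← hay, hainv]
    calc a' * (a' * y * a') * a' = (a' * a') * y * (a' * a') := by simp only [mul_assoc]
      _ = y := by rw [haa, one_mul, mul_one]
  have hdiv : (q : ℤ) ∣ (m - 1) * (m + 1) := by
    have h1 : y ^ ((m - 1) * (m + 1)) = 1 := by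
      have : (m - 1) * (m + 1) = m * m + (-1) := by ring
      rw [this, zpow_add, hymm, zpow_neg, zpow_one, mul_inv_cancel]
    have := orderOf_dvd_iff_zpow_eq_one.mpr h1
    rwa [hy] at this
  have hyne : (y : G) ≠ 1 := by
    intro h
    rw [h, orderOf_one] at hy'
    exact hq.ne_one hy'.symm
  have hinv : a' * y * a'⁻¹ = y⁻¹ := by
    rcases (Nat.prime_iff_prime_int.mp hq).dvd_or_dvd hdiv with h | h
    · exfalso
      apply hyne
      have h1 : y ^ m = y := by
        have : y ^ (m - 1) = 1 := by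
          rw [← orderOf_dvd_iff_zpow_eq_one, hy]; exact h
        calc y ^ m = y ^ (m - 1) * y := by rw [← zpow_add_one]; congr 1; ring
          _ = y := by rw [this, one_mul]
      rw [h1] at hay
      have h2 : a' * y = y * a' := by
        calc a' * y = a' * y * a'⁻¹ * a' := by rw [inv_mul_cancel_right]
          _ = y * a' := by rw [hay]
      refine hC y ?_ hyx ?_
      · exact (congrArg Subtype.val h2).symm
      · rw [← hy', pow_orderOf_eq_one]
    · rw [hay]
      have : y ^ (m + 1) = 1 := by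
        rw [← orderOf_dvd_iff_zpow_eq_one, hy]; exact h
      rw [zpow_add_one] at this
      exact eq_inv_of_mul_eq_one_left this
  refine ⟨y, hy', hyx, congrArg Subtype.val hinv, ?_⟩
  intro z hz
  let z' : C := ⟨z, (memC z).mpr hz⟩
  by_cases hzM : z' ∈ M
  · obtain ⟨k, hk⟩ := Subgroup.mem_zpowers_iff.mp hzM
    refine ⟨k, k, 0, ?_⟩
    have := congrArg Subtype.val hk
    rw [hcomm.mul_zpow] at this
    rw [zpow_zero, mul_one]
    exact this.symm
  · have hza : z' * a' ∈ M := by
      rw [Subgroup.mul_mem_iff_of_index_two hMindex]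
      exact ⟨fun h => absurd h hzM, fun h => absurd h haM⟩
    obtain ⟨k, hk⟩ := Subgroup.mem_zpowers_iff.mp hza
    refine ⟨k, k, 1, ?_⟩
    rw [hcomm.mul_zpow] at hk
    have h1 : z' = x' ^ k * y ^ k * a' := by
      rw [hk, mul_assoc, haa, mul_one]
    rw [zpow_one]
    exact congrArg Subtype.val h1

/-- the structure of the centraliser of an element `x` of order `n` in `{3, 5}` -/
structure PD (x y a : G) (n q : ℕ) : Prop where
  cop : n.Coprime q
  n2 : Nat.Coprime n 2
  q2 : Nat.Coprime q 2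
  xn : orderOf x = n
  yq : orderOf y = q
  aa : a * a = 1
  a1 : a ≠ 1
  xy : y * x = x * y
  ax : a * x = x * a
  inv : a * y * a⁻¹ = y⁻¹
  cover : ∀ z, z * x = x * z → ∃ i j k : ℤ, z = x ^ i * y ^ j * a ^ k

theorem zpow_cases {a : G} (haa : a * a = 1) (k : ℤ) : a ^ k = 1 ∨ a ^ k = a := by
  rcases Int.even_or_odd' k with ⟨m, rfl | rfl⟩
  · left; rw [zpow_mul, zpow_ofNat, pow_two, haa, one_zpow]
  · right; rw [zpow_add_one, zpow_mul, zpow_ofNat, pow_two, haa, one_zpow, one_mul]

namespace PD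

variable {x y a : G} {n q : ℕ}

theorem cover' (D : PD x y a n q) {z : G} (hz : z * x = x * z) :
    ∃ i j : ℤ, z = x ^ i * y ^ j ∨ z = x ^ i * y ^ j * a := by
  obtain ⟨i, j, k, h⟩ := D.cover z hz
  refine ⟨i, j, ?_⟩
  rcases zpow_cases D.aa k with h1 | h1
  · left; rw [h, h1, mul_one]
  · right; rw [h, h1]

theorem sq_form (D : PD x y a n q) (i j : ℤ) :
    (x ^ i * y ^ j * a) * (x ^ i * y ^ j * a) = x ^ (2 * i) := by
  have hainv : a⁻¹ = a := inv_eq_of_mul_eq_one_right D.aa
  have h1 : a * x ^ i = x ^ i * a := (Commute.zpow_right (show Commute a x from D.ax) i).eq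
  have h2 : y ^ j * x ^ i = x ^ i * y ^ j := ((show Commute y x from D.xy).zpow_zpow j i).eq
  have h3 : a * y ^ j * a = (y ^ j)⁻¹ := by
    have := D.inv
    have h4 : a * y ^ j * a⁻¹ = (y⁻¹) ^ j := by rw [← this, conj_zpow]
    rw [hainv] at h4
    rw [h4, inv_zpow]
  calc (x ^ i * y ^ j * a) * (x ^ i * y ^ j * a)
      = x ^ i * y ^ j * (a * x ^ i) * (y ^ j * a) := by simp only [mul_assoc]
    _ = x ^ i * (y ^ j * x ^ i) * (a * y ^ j * a) := by rw [h1]; simp only [mul_assoc]
    _ = x ^ i * (x ^ i * y ^ j) * (y ^ j)⁻¹ := by rw [h2, h3]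
    _ = x ^ i * x ^ i := by group
    _ = x ^ (2 * i) := by rw [← zpow_add]; congr 1; ring

theorem zpow_eq_one_of_two (D : PD x y a n q) {i : ℤ} (h : x ^ (2 * i) = 1) : x ^ i = 1 := by
  rw [← orderOf_dvd_iff_zpow_eq_one, D.xn] at h ⊢
  exact (Nat.isCoprime_iff_coprime.mpr D.n2).dvd_of_dvd_mul_left h

theorem zpow_eq_one_of_q (D : PD x y a n q) {i : ℤ} (h : x ^ (q * i) = 1) : x ^ i = 1 := by
  rw [← orderOf_dvd_iff_zpow_eq_one, D.xn] at h ⊢
  exact (Nat.isCoprime_iff_coprime.mpr D.cop).dvd_of_dvd_mul_left h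

theorem form2 (D : PD x y a n q) {z : G} (hz : z * x = x * z) (hzz : z * z = 1) (hz1 : z ≠ 1) :
    ∃ j : ℤ, z = y ^ j * a := by
  obtain ⟨i, j, h | h⟩ := D.cover' hz
  · exfalso
    apply hz1
    have hc : Commute (x ^ i) (y ^ j) := ((show Commute y x from D.xy).zpow_zpow j i).symm
    have h1 : z ^ (n * q) = 1 := by
      rw [h, hc.mul_pow, ← zpow_natCast, ← zpow_natCast, ← zpow_mul, ← zpow_mul, Nat.cast_mul]
      have e1 : x ^ (i * ((n : ℤ) * q)) = 1 := by
        rw [← orderOf_dvd_iff_zpow_eq_one, D.xn]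
        exact ⟨i * q, by ring⟩
      have e2 : y ^ (j * ((n : ℤ) * q)) = 1 := by
        rw [← orderOf_dvd_iff_zpow_eq_one, D.yq]
        exact ⟨j * n, by ring⟩
      rw [e1, e2, one_mul]
    have h2 : orderOf z ∣ n * q := orderOf_dvd_of_pow_eq_one h1
    have h3 : orderOf z ∣ 2 := orderOf_dvd_of_pow_eq_one (by rw [pow_two, hzz])
    have h4 : Nat.Coprime (n * q) 2 := Nat.Coprime.mul_left D.n2 D.q2
    have h5 : orderOf z ∣ 1 := by
      rw [← h4]; exact Nat.dvd_gcd h2 h3
    rw [← orderOf_eq_one_iff]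
    exact Nat.dvd_one.mp h5
  · rw [h, D.sq_form] at hzz
    have := D.zpow_eq_one_of_two hzz
    exact ⟨j, by rw [h, this, one_mul]⟩

theorem form1 (D : PD x y a n q) {z : G} (hz : z * x = x * z) (hzq : z ^ q = 1) :
    ∃ j : ℤ, z = y ^ j := by
  obtain ⟨i, j, h | h⟩ := D.cover' hz
  · have hc : Commute (x ^ i) (y ^ j) := ((show Commute y x from D.xy).zpow_zpow j i).symm
    rw [h, hc.mul_pow, ← zpow_natCast, ← zpow_natCast, ← zpow_mul, ← zpow_mul] at hzq
    have e2 : y ^ (j * (q : ℤ)) = 1 := by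
      rw [← orderOf_dvd_iff_zpow_eq_one, D.yq]
      exact ⟨j, by ring⟩
    rw [e2, mul_one, mul_comm] at hzq
    have := D.zpow_eq_one_of_q hzq
    exact ⟨j, by rw [h, this, one_mul]⟩
  · refine ⟨0, ?_⟩
    rw [zpow_zero]
    have h1 : z * z = x ^ (2 * i) := by rw [h, D.sq_form]
    have h2 : x ^ (2 * i) = 1 := by
      have h3 : (x ^ (2 * i)) ^ q = 1 := by
        rw [← h1, ← pow_two, ← pow_mul, mul_comm, pow_mul, hzq, one_pow]
      rw [← zpow_natCast, ← zpow_mul, mul_comm] at h3
      exact D.zpow_eq_one_of_q h3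
    rw [h2] at h1
    have h3 : orderOf z ∣ q := orderOf_dvd_of_pow_eq_one hzq
    have h4 : orderOf z ∣ 2 := orderOf_dvd_of_pow_eq_one (by rw [pow_two, h1])
    have h5 : orderOf z ∣ 1 := by
      rw [← D.q2]; exact Nat.dvd_gcd h3 h4
    rw [← orderOf_eq_one_iff]
    exact Nat.dvd_one.mp h5

end PD

theorem sq_of_two {a : G} (ha : orderOf a = 2) : a * a = 1 := by
  rw [← pow_two, ← ha, pow_orderOf_eq_one]

theorem ne_of_two {a : G} (ha : orderOf a = 2) : a ≠ 1 := by
  rintro rfl; rw [orderOf_one] at ha; omega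

theorem orderOf_two {a : G} (h : a * a = 1) (h1 : a ≠ 1) : orderOf a = 2 :=
  orderOf_eq_prime (by rw [pow_two, h]) h1

/-- the centraliser of the 3-element `φ w0` -/
theorem exists_pd3 (h : Local G) {a : G} {φ : A5 →* G} (ha : orderOf a = 2) (P : CentData a φ) :
    ∃ v, PD (φ w0) v a 3 5 := by
  have hw : orderOf (φ w0) = 3 := by
    have : Fact (Nat.Prime 3) := ⟨Nat.prime_three⟩
    refine orderOf_eq_prime ?_ ?_
    · rw [← map_pow]
      have : w0 ^ 3 = 1 := A5More.ds
      rw [this, map_one]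
    · intro h1
      rw [map_eq_one_iff φ P.inj] at h1
      exact A5More.ds_ne h1
  have haa := sq_of_two ha
  obtain ⟨v, h1, h2, h3, h4⟩ := pair Nat.prime_three Nat.prime_five (by norm_num) hw ha (P.comm w0)
    (h.cent3 _ hw) (by
      intro y hy hyx hy5
      have key : ∀ p : A5, φ p * φ w0 = φ w0 * φ p → p ^ 3 = 1 := by
        intro p hp
        rw [← map_mul, ← map_mul] at hp
        exact A5More.comm3 p (P.inj hp)
      obtain ⟨p, rfl | rfl⟩ := P.cover y hy
      · have h3 := key p hyx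
        have h5 : p ^ 5 = 1 := by
          apply P.inj; rw [map_pow, hy5, map_one]
        have : p = 1 := by
          calc p = (p ^ 3) ^ 2 * (p ^ 5)⁻¹ := by group
            _ = 1 := by rw [h3, h5]; simp
        rw [this, map_one]
      · have hc : φ p * φ w0 = φ w0 * φ p := by
          have h6 : a * (φ p * φ w0) = a * (φ w0 * φ p) := by
            calc a * (φ p * φ w0) = a * φ p * φ w0 := by rw [mul_assoc]
              _ = φ w0 * (a * φ p) := hyx
              _ = (φ w0 * a) * φ p := by rw [mul_assoc]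
              _ = a * (φ w0 * φ p) := by rw [← P.comm w0, mul_assoc]
          exact mul_left_cancel h6
        have h3 := key p hc
        have hcc : Commute a (φ p) := P.comm p
        have h6 : (a * φ p) ^ 6 = 1 := by
          rw [hcc.mul_pow, ← map_pow]
          have e1 : a ^ 6 = 1 := by
            rw [show 6 = 2 * 3 by norm_num, pow_mul, pow_two, haa, one_pow]
          have e2 : p ^ 6 = 1 := by
            rw [show 6 = 3 * 2 by norm_num, pow_mul, h3, one_pow]
          rw [e1, e2, map_one, one_mul]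
        calc a * φ p = (a * φ p) ^ 6 * ((a * φ p) ^ 5)⁻¹ := by group
          _ = 1 := by rw [h6, hy5]; simp)
  exact ⟨v, by decide, by decide, by decide, hw, h1, haa, ne_of_two ha, h2, P.comm w0, h3, h4⟩

/-- the centraliser of a 5-element of `F a` -/
theorem exists_pd5 (h : Local G) {a : G} {φ : A5 →* G} (ha : orderOf a = 2) (P : CentData a φ)
    {r : A5} (hr : r ^ 5 = 1) (hr1 : r ≠ 1) :
    ∃ v, PD (φ r) v a 5 3 := by
  have hw : orderOf (φ r) = 5 := by
    have : Fact (Nat.Prime 5) := ⟨Nat.prime_five⟩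
    refine orderOf_eq_prime ?_ ?_
    · rw [← map_pow, hr, map_one]
    · intro h1
      rw [map_eq_one_iff φ P.inj] at h1
      exact hr1 h1
  have haa := sq_of_two ha
  obtain ⟨v, h1, h2, h3, h4⟩ := pair Nat.prime_five Nat.prime_three (by norm_num) hw ha (P.comm r)
    (h.cent5 _ hw) (by
      intro y hy hyx hy3
      have key : ∀ p : A5, φ p * φ r = φ r * φ p → p ^ 5 = 1 := by
        intro p hp
        rw [← map_mul, ← map_mul] at hp
        exact A5More.comm5 p r ⟨hr, hr1⟩ (P.inj hp)
      obtain ⟨p, rfl | rfl⟩ := P.cover y hy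
      · have h3 := key p hyx
        have h5 : p ^ 3 = 1 := by
          apply P.inj; rw [map_pow, hy3, map_one]
        have : p = 1 := by
          calc p = (p ^ 3) ^ 2 * (p ^ 5)⁻¹ := by group
            _ = 1 := by rw [h3, h5]; simp
        rw [this, map_one]
      · have hc : φ p * φ r = φ r * φ p := by
          have h6 : a * (φ p * φ r) = a * (φ r * φ p) := by
            calc a * (φ p * φ r) = a * φ p * φ r := by rw [mul_assoc]
              _ = φ r * (a * φ p) := hyx
              _ = (φ r * a) * φ p := by rw [mul_assoc]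
              _ = a * (φ r * φ p) := by rw [← P.comm r, mul_assoc]
          exact mul_left_cancel h6
        have h3 := key p hc
        have hcc : Commute a (φ p) := P.comm p
        have h6 : (a * φ p) ^ 10 = 1 := by
          rw [hcc.mul_pow, ← map_pow]
          have e1 : a ^ 10 = 1 := by
            rw [show 10 = 2 * 5 by norm_num, pow_mul, pow_two, haa, one_pow]
          have e2 : p ^ 10 = 1 := by
            rw [show 10 = 5 * 2 by norm_num, pow_mul, h3, one_pow]
          rw [e1, e2, map_one, one_mul]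
        have h7 : (a * φ p) ^ 9 = 1 := by
          rw [show 9 = 3 * 3 by norm_num, pow_mul, hy3, one_pow]
        calc a * φ p = (a * φ p) ^ 10 * ((a * φ p) ^ 9)⁻¹ := by group
          _ = 1 := by rw [h6, h7]; simp)
  exact ⟨v, by decide, by decide, by decide, hw, h1, haa, ne_of_two ha, h2, P.comm r, h3, h4⟩

end Cfsg.Agent.SporRec.J1.Pair
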